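import Cfsg.Agent.H977.E83.FixV
import Cfsg.Agent.H64.E83.Conj
import Cfsg.Agent.H738.E83.Line
import Cfsg.Agent.H791.E8L.BE
import Cfsg.Agent.H377.E8M.BM

/-!
# S5925 from the open boxes: uniqueness, partners of order 121, box K (helper977)
-/

set_option autoImplicit false

namespace Cfsg.Agent.H977.E83.Asm

open Matrix Cfsg Cfsg.Lie
open Cfsg.Agent.H64.E83 (E L3 Ph ac stabW U4 U1)
open Cfsg.Agent.H788.E83 (SL5 As Ax Ay At)
open Cfsg.Agent.H114.E8L (BE BM BP Uniq0)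
open Cfsg.Agent.H837.E83.NM11 (eqP4)

/-- box K -/
def BKp : Prop := ∀ f : E, (∀ w w' : List (Fin 4), eqP4 w w' = true →
    (w.map ![Ph Ax, Ph Ay, Ph At, f]).prod = (w'.map ![Ph Ax, Ph Ay, Ph At, f]).prod) → f ∈ stabW U1

theorem hyp_of (hP : BP) (hU : Uniq0) (hK : BKp) : Hyp where
  conj := Cfsg.Agent.H64.E83.conj Cfsg.Agent.H791.E8L.be hU
  be := Cfsg.Agent.H791.E8L.be
  bm := Cfsg.Agent.H377.E8M.bM
  fixv := fixv hP
  pgl := by
    intro h h1 h2 h3 h4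
    obtain ⟨c, hc⟩ := Cfsg.Agent.H738.E83.pgl_line h1 h3 h4
    exact Cfsg.Agent.H64.E83.pgl_stab h1 h2 hc
  bk := hK

/-- **S5925 from BP, Uniq0, K** -/
theorem fin (hP : BP) (hU : Uniq0) (hK : BKp) {F : Type*} [Field F] [Fintype F] (hF : Fintype.card F = 11)
    (H : Subgroup ↥(Cfsg.Lie.chevE8.group (ZMod 3)))
    (hH : Nonempty (↥(Cfsg.generalizedFittingSubgroup ↥H) ≃* Matrix.ProjectiveSpecialLinearGroup (Fin 2) F) ∨
      Cfsg.Spor.IsoM11 ↥(Cfsg.generalizedFittingSubgroup ↥H)) : ¬ IsCoatom H :=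
  asm (hyp_of hP hU hK) hF H hH

end Cfsg.Agent.H977.E83.Asm
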