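import Cfsg.Agent.H977.E83.Fin
import Cfsg.Agent.H639.E83.BP
import Cfsg.Agent.H908.E8L.Boxes

/-!
# S5925 from the open boxes: uniqueness and box K (helper977)
-/

set_option autoImplicit false

namespace Cfsg.Agent.H977.E83.Asm

open Cfsg.Agent.H114.E8L (Uniq0)

/-- **S5925 from Uniq0, K** -/
theorem fin2 (hU : Uniq0) (hK : BKp) {F : Type*} [Field F] [Fintype F] (hF : Fintype.card F = 11)
    (H : Subgroup ↥(Cfsg.Lie.chevE8.group (ZMod 3)))
    (hH : Nonempty (↥(Cfsg.generalizedFittingSubgroup ↥H) ≃* Matrix.ProjectiveSpecialLinearGroup (Fin 2) F) ∨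
      Cfsg.Spor.IsoM11 ↥(Cfsg.generalizedFittingSubgroup ↥H)) : ¬ IsCoatom H :=
  fin (Cfsg.Agent.H639.E83.bp Cfsg.Agent.H908.E8L.b2) hU hK hF H hH

end Cfsg.Agent.H977.E83.Asm
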