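import Cfsg.Agent.H977.E83.Fin2
import Cfsg.Agent.H732.E8T.K
import Cfsg.Agent.H60.E83.UpQ
import Cfsg.Agent.H65.E8L.QBox
import Cfsg.Agent.H947.P9.Stmt

/-!
# S5925 from the search (box H) (helper977)
-/

set_option autoImplicit false

namespace Cfsg.Agent.H977.E83.Asm

open Cfsg.Agent.H288.E8L (K8)

/-- box K -/
theorem bkp : BKp := fun f h => Cfsg.Agent.H732.E8T.bk f h

/-- box Q in the form of helper60 -/
theorem qbox : Cfsg.Agent.H60.E83.QBox := by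
  intro t h v hx hy
  have h' := Cfsg.Agent.H60.E83.rel_791 h
  rw [← Cfsg.Agent.H60.E83.x0_eq] at hx
  rw [← Cfsg.Agent.H60.E83.y0_eq] at hy
  rw [← Cfsg.Agent.H60.E83.x0_eq, ← Cfsg.Agent.H60.E83.y0_eq] at h'
  rw [← Cfsg.Agent.H60.E83.x0_eq]
  exact Cfsg.Agent.H65.E8L.QBox.sig0 h' hx hy

/-- the statement of the search gives `HOut` -/
theorem hout {g : K8} (hS : Cfsg.Agent.H947.P9.Search K8 g) (hg : g ^ 4 = 1 - g) : Cfsg.Agent.H60.E83.HOut g :=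
  ⟨fun a b => g ^ Cfsg.Agent.H947.P9.Q0E a b, fun q hq => hS hg q hq⟩

/-- **S5925 from the search** -/
theorem fin3 (hS : ∀ g : K8, Cfsg.Agent.H947.P9.Search K8 g) {F : Type*} [Field F] [Fintype F]
    (hF : Fintype.card F = 11) (H : Subgroup ↥(Cfsg.Lie.chevE8.group (ZMod 3)))
    (hH : Nonempty (↥(Cfsg.generalizedFittingSubgroup ↥H) ≃* Matrix.ProjectiveSpecialLinearGroup (Fin 2) F) ∨
      Cfsg.Spor.IsoM11 ↥(Cfsg.generalizedFittingSubgroup ↥H)) : ¬ IsCoatom H :=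
  fin2 (Cfsg.Agent.H60.E83.uniq0_q qbox fun g hg => hout (hS g) hg) bkp hF H hH

end Cfsg.Agent.H977.E83.Asm
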