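import Cfsg.Agent.H977.E83.Asm
import Cfsg.Agent.H74.E83.Trip
import Cfsg.Agent.S1054

/-!
# S5925: a coatom fixing a nonzero vector has order divisible by 121 (helper977)
-/

set_option autoImplicit false

namespace Cfsg.Agent.H977.E83.Asm

open Matrix Cfsg Cfsg.Lie
open Cfsg.Agent.H64.E83 (E L3 Ph ac mx ac_one ac_mul ac_inv_ac ac_ac_inv ac_add ac_smul stabW mem_stabW)
open Cfsg.Agent.H114.E8L (BP)

theorem simpleE : IsSimpleGroup E := (Cfsg.Agent.S1054.result (F := ZMod 3) chevE8 (by simp)).1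

/-- the pointwise stabiliser -/
def pst (W : Submodule (ZMod 3) L3) : Subgroup E where
  carrier := {g | ∀ v ∈ W, ac g v = v}
  one_mem' := fun v _ => ac_one v
  mul_mem' := fun {a b} ha hb v hv => by rw [ac_mul, hb v hv, ha v hv]
  inv_mem' := by
    intro g hg v hv
    have h := ac_inv_ac g v
    rwa [hg v hv] at h

theorem stab_ne_top {W : Submodule (ZMod 3) L3} (hW : W ≠ ⊥) {x : E} (hx1 : x ≠ 1) (hx : ∀ v ∈ W, ac x v = v) :
    stabW W ≠ ⊤ := by
  intro htop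
  have hn : (pst W).Normal := by
    refine ⟨fun n hn g v hv => ?_⟩
    have h1 : ac g⁻¹ v ∈ W := (htop ▸ Subgroup.mem_top g⁻¹ : g⁻¹ ∈ stabW W) v hv
    rw [ac_mul, ac_mul, hn _ h1, ac_ac_inv]
  have hs := simpleE
  rcases hn.eq_bot_or_eq_top with h | h
  · apply hx1
    have h1 : x ∈ pst W := hx
    rwa [h, Subgroup.mem_bot] at h1
  · apply hW
    rw [eq_bot_iff]
    intro v hv
    rw [Submodule.mem_bot]
    have h1 : ∀ g : E, ac g v = v := fun g => (h ▸ Subgroup.mem_top g : g ∈ pst W) v hv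
    exact Cfsg.Agent.H74.E83.Trip.noFix (h1 _) (h1 _) (h1 _)

/-- **box FIXV** -/
theorem fixv (hP : BP) (H : Subgroup E) (W : Submodule (ZMod 3) L3) (x : E) (hH : IsCoatom H) (hW : W ≠ ⊥)
    (h11 : x ^ 11 = 1) (hx1 : x ≠ 1) (hx : ∀ v ∈ W, ac x v = v) (hHW : H ≤ stabW W) : 121 ∣ Nat.card H := by
  have h1 : stabW W = H := (hH.le_iff.1 hHW).resolve_left (stab_ne_top hW hx1 hx)
  obtain ⟨x', hx', hv⟩ := hP x h11 hx1
  have h2 : x' ∈ H := by
    rw [← h1]
    intro v hvW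
    have h3 : ac x' v = v := hv v (hx v hvW)
    rw [h3]
    exact hvW
  have h3 := Subgroup.orderOf_dvd_natCard H h2
  rwa [hx'] at h3

end Cfsg.Agent.H977.E83.Asm
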